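import Mathlib
import Cfsg.Prelude.Def_FischerSpaces

/-! Partial linear spaces with three-point lines: third points, the maps `t x`. -/

set_option autoImplicit false

namespace CfsgLib.FischerSp

open Cfsg Cfsg.LineSystem

variable {X : Type*}

/-- `x, y, z` are the three different points of a line. -/
def Tri (L : Set (Set X)) (x y z : X) : Prop :=
  x ≠ y ∧ y ≠ z ∧ x ≠ z ∧ ({x, y, z} : Set X) ∈ L

theorem Tri.symm12 {L : Set (Set X)} {x y z : X} (h : Tri L x y z) : Tri L y x z := by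
  obtain ⟨h1, h2, h3, h4⟩ := h
  refine ⟨h1.symm, h3, h2, ?_⟩
  rwa [Set.insert_comm]

theorem Tri.symm23 {L : Set (Set X)} {x y z : X} (h : Tri L x y z) : Tri L x z y := by
  obtain ⟨h1, h2, h3, h4⟩ := h
  refine ⟨h3, h2.symm, h1, ?_⟩
  rwa [Set.pair_comm z y]

theorem Tri.unique {L : Set (Set X)} (hPL : IsPartialLinear L) {x y z z' : X}
    (h : Tri L x y z) (h' : Tri L x y z') : z = z' := by
  obtain ⟨h1, h2, h3, h4⟩ := h
  obtain ⟨h1', h2', h3', h4'⟩ := h'
  have e := hPL _ h4 _ h4' x y h1 (by simp) (by simp) (by simp) (by simp)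
  have : z ∈ ({x, y, z'} : Set X) := by rw [← e]; simp
  simp only [Set.mem_insert_iff, Set.mem_singleton_iff] at this
  rcases this with h | h | h
  · exact absurd h.symm h3
  · exact absurd h.symm h2
  · exact h

theorem exists_tri {L : Set (Set X)} (h3 : ∀ l ∈ L, l.ncard = 3) {l : Set X} (hl : l ∈ L) {x y : X}
    (hx : x ∈ l) (hy : y ∈ l) (hxy : x ≠ y) : ∃ z, Tri L x y z ∧ l = {x, y, z} := by
  obtain ⟨a, b, c, hab, hac, hbc, e⟩ := Set.ncard_eq_three.mp (h3 l hl)
  have key : ∀ u v w : X, u ≠ v → v ≠ w → u ≠ w → ({u, v, w} : Set X) = l →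
      ∃ z, Tri L u v z ∧ l = {u, v, z} :=
    fun u v w h1 h2 h4 h5 => ⟨w, ⟨h1, h2, h4, by rw [h5]; exact hl⟩, h5.symm⟩
  rw [e] at hx hy
  simp only [Set.mem_insert_iff, Set.mem_singleton_iff] at hx hy
  have sets : ∀ t : X, t ∈ l ↔ t = a ∨ t = b ∨ t = c := by
    intro t; rw [e]; simp only [Set.mem_insert_iff, Set.mem_singleton_iff]
  rcases hx with hx | hx | hx <;> rcases hy with hy | hy | hy <;> subst hx <;> subst hy
  · exact absurd rfl hxy
  · exact key _ _ c hab hbc hac (by ext t; simp only [sets, Set.mem_insert_iff, Set.mem_singleton_iff])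
  · exact key _ _ b hac hbc.symm hab (by ext t; simp only [sets, Set.mem_insert_iff, Set.mem_singleton_iff]; tauto)
  · exact key _ _ c hab.symm hac hbc (by ext t; simp only [sets, Set.mem_insert_iff, Set.mem_singleton_iff]; tauto)
  · exact absurd rfl hxy
  · exact key _ _ a hbc hac.symm hab.symm (by ext t; simp only [sets, Set.mem_insert_iff, Set.mem_singleton_iff]; tauto)
  · exact key _ _ b hac.symm hab hbc.symm (by ext t; simp only [sets, Set.mem_insert_iff, Set.mem_singleton_iff]; tauto)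
  · exact key _ _ a hbc.symm hab.symm hac.symm (by ext t; simp only [sets, Set.mem_insert_iff, Set.mem_singleton_iff]; tauto)
  · exact absurd rfl hxy

theorem lineMap_of_tri {L : Set (Set X)} (hPL : IsPartialLinear L) {x y z : X} (h : Tri L x y z) :
    lineMap L x y = z := by
  have hex : ∃ z : X, z ≠ x ∧ z ≠ y ∧ x ≠ y ∧ ({x, y, z} : Set X) ∈ L :=
    ⟨z, h.2.2.1.symm, h.2.1.symm, h.1, h.2.2.2⟩
  unfold lineMap
  rw [dif_pos hex]
  have hs := hex.choose_spec
  exact Tri.unique hPL ⟨hs.2.2.1, hs.2.1.symm, hs.1.symm, hs.2.2.2⟩ h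

theorem lineMap_of_not {L : Set (Set X)} {x y : X} (h : ¬ ∃ z, Tri L x y z) :
    lineMap L x y = y := by
  have hex : ¬ ∃ z : X, z ≠ x ∧ z ≠ y ∧ x ≠ y ∧ ({x, y, z} : Set X) ∈ L := by
    rintro ⟨z, h1, h2, h3, h4⟩
    exact h ⟨z, h3, h2.symm, h1.symm, h4⟩
  unfold lineMap
  rw [dif_neg hex]

theorem lineMap_invol {L : Set (Set X)} (hPL : IsPartialLinear L) (x : X) :
    Function.Involutive (lineMap L x) := by
  intro y
  by_cases h : ∃ z, Tri L x y z
  · obtain ⟨z, hz⟩ := h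
    rw [lineMap_of_tri hPL hz, lineMap_of_tri hPL hz.symm23]
  · rw [lineMap_of_not h, lineMap_of_not h]

/-- An automorphism conjugates `t x` to `t (α x)`. -/
theorem lineMap_conj {L : Set (Set X)} (hPL : IsPartialLinear L) (α : X ≃ X) (hα : IsIso L L α)
    (x y : X) : lineMap L (α x) (α y) = α (lineMap L x y) := by
  by_cases h : ∃ z, Tri L x y z
  · obtain ⟨z, hz⟩ := h
    rw [lineMap_of_tri hPL hz]
    apply lineMap_of_tri hPL
    obtain ⟨h1, h2, h3, h4⟩ := hz
    refine ⟨fun e => h1 (α.injective e), fun e => h2 (α.injective e), fun e => h3 (α.injective e), ?_⟩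
    have := (hα _).mp h4
    simpa [Set.image_insert_eq, Set.image_singleton] using this
  · rw [lineMap_of_not h, lineMap_of_not]
    rintro ⟨z, h1, h2, h3, h4⟩
    apply h
    refine ⟨α.symm z, fun e => h1 (by rw [e]), ?_, ?_, ?_⟩
    · intro e; apply h2; rw [e]; simp
    · intro e; apply h3; rw [e]; simp
    · rw [hα]
      simpa [Set.image_insert_eq, Set.image_singleton] using h4

/-- Model data: a line system on `P` with an explicit third-point map. -/
structure Model {P : Type*} (M : Set (Set P)) (t : P → P → P) : Prop where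
  self : ∀ p, t p p = p
  third : ∀ n ∈ M, ∀ p ∈ n, ∀ q ∈ n, p ≠ q → t p q ≠ p ∧ t p q ≠ q ∧ n = {p, q, t p q}
  off : ∀ p q, p ≠ q → (¬ ∃ n ∈ M, p ∈ n ∧ q ∈ n) → t p q = q
  image : ∀ p, ∀ n ∈ M, t p '' n ∈ M

theorem subset_span (L : Set (Set X)) (S : Set X) : S ⊆ span L S := by
  intro a ha
  simp only [span, Set.mem_sInter]
  exact fun T hT => hT.1 ha

theorem span_isSubspace (L : Set (Set X)) (S : Set X) : IsSubspace L (span L S) := by
  intro l hl x hx y hy hxy hxl hyl a ha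
  simp only [span, Set.mem_sInter] at hx hy ⊢
  intro T hT
  exact hT.2 l hl x (hx T hT) y (hy T hT) hxy hxl hyl ha

/-- Third points inside a subspace carrying a model isomorphism. -/
theorem e_lineMap {L : Set (Set X)} (hPL : IsPartialLinear L) (h3 : ∀ l ∈ L, l.ncard = 3)
    {S : Set X} (hS : IsSubspace L S)
    {P : Type*} {M : Set (Set P)} {t : P → P → P} (hM : Model M t) (e : S ≃ P)
    (he : IsIso (restrict L S) M e) (x y : S) :
    ∃ h : lineMap L x.1 y.1 ∈ S, e ⟨lineMap L x.1 y.1, h⟩ = t (e x) (e y) := by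
  by_cases hxy : x = y
  · subst hxy
    have hn : ¬ ∃ z, Tri L x.1 x.1 z := fun ⟨z, hz⟩ => hz.1 rfl
    rw [lineMap_of_not hn, hM.self]
    exact ⟨x.2, rfl⟩
  by_cases h : ∃ z, Tri L x.1 y.1 z
  · obtain ⟨z, hz⟩ := h
    rw [lineMap_of_tri hPL hz]
    have hne : x.1 ≠ y.1 := hz.1
    have hsub := hS _ hz.2.2.2 x.1 x.2 y.1 y.2 hne (by simp) (by simp)
    have hzS : z ∈ S := hsub (by simp)
    refine ⟨hzS, ?_⟩
    have hl : ({s : S | s.1 ∈ ({x.1, y.1, z} : Set X)} : Set S) ∈ restrict L S :=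
      ⟨_, hz.2.2.2, hsub, rfl⟩
    have hn := (he _).mp hl
    have hpq : e x ≠ e y := fun h => hxy (e.injective h)
    obtain ⟨h1, h2, h3⟩ := hM.third _ hn (e x) ⟨x, by simp, rfl⟩ (e y) ⟨y, by simp, rfl⟩ hpq
    have hz' : e ⟨z, hzS⟩ ∈ e '' {s : S | s.1 ∈ ({x.1, y.1, z} : Set X)} := ⟨⟨z, hzS⟩, by simp, rfl⟩
    rw [h3] at hz'
    simp only [Set.mem_insert_iff, Set.mem_singleton_iff] at hz'
    rcases hz' with h' | h' | h'
    · exact absurd (congrArg Subtype.val (e.injective h')) hz.2.2.1.symm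
    · exact absurd (congrArg Subtype.val (e.injective h')) hz.2.1.symm
    · exact h'
  · rw [lineMap_of_not h]
    refine ⟨y.2, ?_⟩
    have hpq : e x ≠ e y := fun h => hxy (e.injective h)
    rw [hM.off _ _ hpq]
    rintro ⟨n, hn, hxn, hyn⟩
    have : e '' (e ⁻¹' n) = n := e.image_preimage n
    have hr : e ⁻¹' n ∈ restrict L S := (he _).mpr (by rwa [this])
    obtain ⟨l0, hl0, hl0S, hm⟩ := hr
    have hx0 : x.1 ∈ l0 := by
      have : x ∈ e ⁻¹' n := hxn
      rw [hm] at this; exact this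
    have hy0 : y.1 ∈ l0 := by
      have : y ∈ e ⁻¹' n := hyn
      rw [hm] at this; exact this
    have hne : x.1 ≠ y.1 := fun h => hxy (Subtype.ext h)
    obtain ⟨z, hz, -⟩ := exists_tri h3 hl0 hx0 hy0 hne
    exact h ⟨z, hz⟩

end CfsgLib.FischerSp
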