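import Cfsg.Agent.Lib.FischerSp.Planes

/-! The line system of a 3-transposition quandle is a Fischer space. -/

set_option autoImplicit false
set_option maxRecDepth 100000

namespace CfsgLib.FischerSp

open Cfsg Cfsg.LineSystem

variable {Q : Type*} {op : Q → Q → Q}

/-- indices of the dual plane -/
def idxD (s : DualAffinePoint) : Fin 6 :=
  if s.1 = {0, 1} then 0 else if s.1 = {1, 2} then 1 else if s.1 = {2, 3} then 2
  else if s.1 = {0, 2} then 3 else if s.1 = {1, 3} then 4 else 5

theorem idxD_t : ∀ p q, idxD (tDual p q) = tab6 (idxD p) (idxD q) := by decide +kernel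
theorem idxD_inj : ∀ p q, idxD p = idxD q → p = q := by decide +kernel
theorem idxD_surj : ∀ i, ∃ p, idxD p = i := by decide +kernel
theorem idxD_col : ∀ (i : Fin 4) (p q : DualAffinePoint), i ∉ p.1 → i ∉ q.1 → p ≠ q →
    Col6 (idxD p) (idxD q) := by decide +kernel
theorem dual_two_points : ∀ i : Fin 4, ∃ p q : DualAffinePoint, p ≠ q ∧ i ∉ p.1 ∧ i ∉ q.1 := by
  decide +kernel

theorem third_mem_span {T : Set Q} {a b : Q} (ha : a ∈ span (QL op) T) (hb : b ∈ span (QL op) T)
    (h : FQ op) (hn : NC op a b) : op b a ∈ span (QL op) T :=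
  span_isSubspace (QL op) T _ ⟨a, b, hn, rfl⟩ a ha b hb (NC.ne h hn) (Or.inl rfl) (Or.inr (Or.inl rfl))
    (Or.inr (Or.inr rfl))

theorem dual_iso (h : FQ op) {x y u : Q} (hxy : NC op x y) (hxu : NC op x u) (hyu : op y u = u)
    (hne : y ≠ u) :
    Isomorphic (restrict (QL op) (span (QL op) (QLine op x y ∪ QLine op x u))) dualAffinePlaneTwo := by
  have hG := dual_good h hxy hxu hyu
  have hN := dual_nc h hxy hxu hyu
  have hI := dual_inj h hxy hxu hyu hne
  have eyx : op y x = op x y := (NC.eq h hxy).symm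
  have eux : op u x = op x u := (NC.eq h hxu).symm
  set f := v6 y x u (op x y) (op x u) (op y (op x u)) with hf
  have hsub := subset_span (QL op) (QLine op x y ∪ QLine op x u)
  have m1 : x ∈ span (QL op) (QLine op x y ∪ QLine op x u) := hsub (Or.inl (Or.inl rfl))
  have m0 : y ∈ span (QL op) (QLine op x y ∪ QLine op x u) := hsub (Or.inl (Or.inr (Or.inl rfl)))
  have m2 : u ∈ span (QL op) (QLine op x y ∪ QLine op x u) := hsub (Or.inr (Or.inr (Or.inl rfl)))
  have m3 : op x y ∈ span (QL op) (QLine op x y ∪ QLine op x u) :=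
    hsub (Or.inl (Or.inr (Or.inr eyx.symm)))
  have m4 : op x u ∈ span (QL op) (QLine op x y ∪ QLine op x u) :=
    hsub (Or.inr (Or.inr (Or.inr eux.symm)))
  have hn40 : NC op (f 4) (f 0) := hN 4 0 (by decide)
  have m5 : op y (op x u) ∈ span (QL op) (QLine op x y ∪ QLine op x u) :=
    third_mem_span m4 m0 h hn40
  have hr : ∀ i, f i ∈ Set.range (f ∘ idxD) := fun i => by
    obtain ⟨p, hp⟩ := idxD_surj i
    exact ⟨p, by rw [Function.comp_apply, hp]⟩
  have hsp : ∀ i, f i ∈ span (QL op) (QLine op x y ∪ QLine op x u) := by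
    intro i
    fin_cases i
    · exact m0
    · exact m1
    · exact m2
    · exact m3
    · exact m4
    · exact m5
  refine iso_of_phi h model_dual ?_ (f ∘ idxD) ?_ ?_ ?_ _ ?_ ?_
  · rintro n ⟨i, rfl⟩
    obtain ⟨p, q, h1, h2, h3⟩ := dual_two_points i
    exact ⟨p, q, h1, h2, h3⟩
  · intro p q e
    exact idxD_inj p q (hI e)
  · intro p q
    simp only [Function.comp_apply]
    rw [idxD_t]
    exact hG _ _
  · rintro p q hpq ⟨n, ⟨i, rfl⟩, hp, hq⟩
    exact hN _ _ (idxD_col i p q hp hq hpq)
  · rintro z ((rfl | rfl | rfl) | (rfl | rfl | rfl))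
    · exact hr 1
    · exact hr 0
    · rw [eyx]; exact hr 3
    · exact hr 1
    · exact hr 2
    · rw [eux]; exact hr 4
  · intro p
    exact hsp _

/-- indices of the affine plane -/
def idxA (p : AffPt) : Fin 9 := Fin.ofNat 9 (3 * (p 0).val + (p 1).val)

theorem idxA_t_aux : ∀ a b c d : ZMod 3, Fin.ofNat 9 (3 * (-a - c).val + (-b - d).val) =
    tab9 (Fin.ofNat 9 (3 * a.val + b.val)) (Fin.ofNat 9 (3 * c.val + d.val)) := by decide +kernel

theorem idxA_inj_aux : ∀ a b c d : ZMod 3, Fin.ofNat 9 (3 * a.val + b.val) = Fin.ofNat 9 (3 * c.val + d.val) →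
    a = c ∧ b = d := by decide +kernel

theorem idxA_surj_aux : ∀ i : Fin 9, ∃ a b : ZMod 3, Fin.ofNat 9 (3 * a.val + b.val) = i := by decide +kernel

theorem idxA_t (p q : AffPt) : idxA (tAff p q) = tab9 (idxA p) (idxA q) :=
  idxA_t_aux (p 0) (p 1) (q 0) (q 1)

theorem idxA_inj : Function.Injective idxA := by
  intro p q e
  obtain ⟨h0, h1⟩ := idxA_inj_aux _ _ _ _ e
  funext i
  fin_cases i
  · exact h0
  · exact h1

theorem idxA_surj (i : Fin 9) : ∃ p, idxA p = i := by
  obtain ⟨a, b, h⟩ := idxA_surj_aux i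
  exact ⟨![a, b], h⟩

theorem aff_iso (h : FQ op) {x y u : Q} (hxy : NC op x y) (hxu : NC op x u) (hyu : NC op y u)
    (hzu : NC op (op x y) u) :
    Isomorphic (restrict (QL op) (span (QL op) (QLine op x y ∪ QLine op x u))) affinePlaneThree := by
  have hG := aff_good h hxy hxu hyu hzu
  have hN := aff_nc h hxy hxu hyu hzu
  have eyx : op y x = op x y := (NC.eq h hxy).symm
  have eux : op u x = op x u := (NC.eq h hxu).symm
  set f := v9 x u (op x u) y (op (op x y) (op x u)) (op (op x y) u) (op x y) (op y (op x u)) (op y u) with hf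
  have hsub := subset_span (QL op) (QLine op x y ∪ QLine op x u)
  have m0 : x ∈ span (QL op) (QLine op x y ∪ QLine op x u) := hsub (Or.inl (Or.inl rfl))
  have m3 : y ∈ span (QL op) (QLine op x y ∪ QLine op x u) := hsub (Or.inl (Or.inr (Or.inl rfl)))
  have m1 : u ∈ span (QL op) (QLine op x y ∪ QLine op x u) := hsub (Or.inr (Or.inr (Or.inl rfl)))
  have m6 : op x y ∈ span (QL op) (QLine op x y ∪ QLine op x u) :=
    hsub (Or.inl (Or.inr (Or.inr eyx.symm)))
  have m2 : op x u ∈ span (QL op) (QLine op x y ∪ QLine op x u) :=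
    hsub (Or.inr (Or.inr (Or.inr eux.symm)))
  have n13 : NC op (f 1) (f 3) := hN 1 3 (by decide)
  have n23 : NC op (f 2) (f 3) := hN 2 3 (by decide)
  have n26 : NC op (f 2) (f 6) := hN 2 6 (by decide)
  have n16 : NC op (f 1) (f 6) := hN 1 6 (by decide)
  have m8 : op y u ∈ span (QL op) (QLine op x y ∪ QLine op x u) := third_mem_span m1 m3 h n13
  have m7 : op y (op x u) ∈ span (QL op) (QLine op x y ∪ QLine op x u) := third_mem_span m2 m3 h n23
  have m4 : op (op x y) (op x u) ∈ span (QL op) (QLine op x y ∪ QLine op x u) := third_mem_span m2 m6 h n26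
  have m5 : op (op x y) u ∈ span (QL op) (QLine op x y ∪ QLine op x u) := third_mem_span m1 m6 h n16
  have hr : ∀ i, f i ∈ Set.range (f ∘ idxA) := fun i => by
    obtain ⟨p, hp⟩ := idxA_surj i
    exact ⟨p, by rw [Function.comp_apply, hp]⟩
  have hsp : ∀ i, f i ∈ span (QL op) (QLine op x y ∪ QLine op x u) := by
    intro i
    fin_cases i
    · exact m0
    · exact m1
    · exact m2
    · exact m3
    · exact m4
    · exact m5
    · exact m6
    · exact m7
    · exact m8
  refine iso_of_phi h model_aff ?_ (f ∘ idxA) ?_ ?_ ?_ _ ?_ ?_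
  · rintro n ⟨v, w, hw, rfl⟩
    refine ⟨v, v + (1 : ZMod 3) • w, ?_, ⟨0, by simp⟩, ⟨1, rfl⟩⟩
    intro e
    apply hw
    have : (1 : ZMod 3) • w = 0 := by
      have := add_left_cancel (a := v) (b := 0) (c := (1 : ZMod 3) • w) (by rw [add_zero]; exact e)
      exact this.symm
    simpa using this
  · intro p q e
    by_contra hpq
    have := hN (idxA p) (idxA q) (fun h' => hpq (idxA_inj h'))
    exact NC.ne h this e
  · intro p q
    simp only [Function.comp_apply]
    rw [idxA_t]
    exact hG _ _
  · rintro p q hpq -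
    exact hN _ _ (fun h' => hpq (idxA_inj h'))
  · rintro z ((rfl | rfl | rfl) | (rfl | rfl | rfl))
    · exact hr 0
    · exact hr 3
    · rw [eyx]; exact hr 6
    · exact hr 0
    · exact hr 1
    · rw [eux]; exact hr 2
  · intro p
    exact hsp _

theorem ql_fischer (h : FQ op) : IsFischerSpace (QL op) := by
  refine ⟨ql_partial h, ql_card h, ?_⟩
  rintro l hl m hm hne ⟨t, htl, htm⟩
  obtain ⟨y, hy, rfl⟩ := line_through h hl htl
  obtain ⟨u, hu, rfl⟩ := line_through h hm htm
  have tz := Tr.of_nc h hy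
  have tv := Tr.of_nc h hu
  have hz : NC op t (op t y) := (tz.swap23 h).1
  have hv : NC op t (op t u) := (tv.swap23 h).1
  have lz : QLine op t (op t y) = QLine op t y :=
    (mem_ql h hy (Or.inl rfl) (Or.inr (Or.inr tz.2.2.symm)) (NC.ne h hz)).2
  have lv : QLine op t (op t u) = QLine op t u :=
    (mem_ql h hu (Or.inl rfl) (Or.inr (Or.inr tv.2.2.symm)) (NC.ne h hv)).2
  by_cases c1 : op y u = u
  · left
    exact dual_iso h hy hu c1 (by rintro rfl; exact hne rfl)
  by_cases c2 : op y (op t u) = op t u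
  · left
    have := dual_iso h hy hv c2 (by
      intro e; apply hne; rw [← lv, ← e])
    rwa [lv] at this
  by_cases c3 : op (op t y) u = u
  · left
    have := dual_iso h hz hu c3 (by
      intro e; apply hne; rw [← lz, e])
    rwa [lz] at this
  by_cases c4 : op (op t y) (op t u) = op t u
  · left
    have := dual_iso h hz hv c4 (by
      intro e; apply hne; rw [← lz, ← lv, e])
    rwa [lz, lv] at this
  · right
    exact aff_iso h hy hu c1 c3

/-- the quandle of a conjugation-closed set of 3-transpositions -/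
def opD {G : Type*} [Group G] {D : Set G} (hD : IsThreeTranspositionSet D)
    (hconj : ∀ g : G, ∀ d ∈ D, g * d * g⁻¹ ∈ D) (a b : D) : D :=
  ⟨(a : G) * b * a, by
    have h2 : (a : G) ^ 2 = 1 := by
      have := hD.1 a a.2
      rw [← this]; exact pow_orderOf_eq_one _
    have hi : (a : G)⁻¹ = a := by
      rw [inv_eq_iff_mul_eq_one, ← pow_two, h2]
    have := hconj a b b.2
    rwa [hi] at this⟩

theorem opD_val {G : Type*} [Group G] {D : Set G} (hD : IsThreeTranspositionSet D)
    (hconj : ∀ g : G, ∀ d ∈ D, g * d * g⁻¹ ∈ D) (a b : D) :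
    (opD hD hconj a b : G) = a * b * a := rfl

theorem fq_opD {G : Type*} [Group G] {D : Set G} (hD : IsThreeTranspositionSet D)
    (hconj : ∀ g : G, ∀ d ∈ D, g * d * g⁻¹ ∈ D) : FQ (opD hD hconj) := by
  have sq : ∀ a : D, (a : G) * a = 1 := by
    intro a
    have := hD.1 a a.2
    rw [← pow_two, ← this]; exact pow_orderOf_eq_one _
  refine ⟨?_, ?_, ?_, ?_⟩
  · intro a
    apply Subtype.ext
    rw [opD_val, sq, one_mul]
  · intro a b
    apply Subtype.ext
    rw [opD_val, opD_val]
    calc (a : G) * (a * b * a) * a = (a * a) * b * (a * a) := by group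
      _ = b := by rw [sq]; group
  · intro a b c
    apply Subtype.ext
    simp only [opD_val]
    have e : ((a : G) * a) = 1 := sq a
    calc (a : G) * (b * c * b) * a = a * b * (a * a) * c * (a * a) * b * a := by
          rw [e]; group
      _ = a * b * a * (a * c * a) * (a * b * a) := by group
  · intro a b
    rcases hD.2 a a.2 b b.2 with h | h
    · left
      apply Subtype.ext
      rw [opD_val]
      have : (a : G) * b * (a * b) = 1 := by rw [← mul_assoc]; rw [pow_two] at h; simpa [mul_assoc] using h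
      calc (a : G) * b * a = a * b * a * (b * b) := by rw [sq]; group
        _ = (a * b * (a * b)) * b := by group
        _ = b := by rw [this, one_mul]
    · right
      apply Subtype.ext
      rw [opD_val, opD_val]
      have h3 : (a : G) * b * a * (b * a * b) = 1 := by
        have : (a : G) * b * a * (b * a * b) = (a * b) ^ 3 := by
          simp only [pow_succ, pow_zero, one_mul, mul_assoc]
        rw [this, h]
      have hb : (b : G) * a * b * (b * a * b) = 1 := by
        calc (b : G) * a * b * (b * a * b) = b * a * (b * b) * a * b := by group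
          _ = b * (a * a) * b := by rw [sq]; group
          _ = 1 := by rw [sq, mul_one, sq]
      exact mul_right_cancel (h3.trans hb.symm)

theorem lines_eq {G : Type*} [Group G] {D : Set G} (hD : IsThreeTranspositionSet D)
    (hconj : ∀ g : G, ∀ d ∈ D, g * d * g⁻¹ ∈ D) :
    threeTranspositionLines D = QL (opD hD hconj) := by
  have sq : ∀ a : D, (a : G) * a = 1 := by
    intro a
    have := hD.1 a a.2
    rw [← pow_two, ← this]; exact pow_orderOf_eq_one _
  have hinv : ∀ a : D, (a : G)⁻¹ = a := fun a => by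
    rw [inv_eq_iff_mul_eq_one, sq]
  have hnc : ∀ x y : D, ¬ Commute (x : G) (y : G) ↔ NC (opD hD hconj) x y := by
    intro x y
    unfold NC
    apply not_congr
    constructor
    · intro hc
      apply Subtype.ext
      rw [opD_val, hc.eq, mul_assoc, sq, mul_one]
    · intro e
      have e2 := congrArg Subtype.val e
      rw [opD_val] at e2
      unfold Commute SemiconjBy
      calc (x : G) * y = ((x : G) * y * x) * x := by rw [mul_assoc ((x : G) * y), sq, mul_one]
        _ = y * x := by rw [e2]
  ext l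
  constructor
  · rintro ⟨x, y, hn, rfl⟩
    refine ⟨x, y, (hnc x y).mp hn, ?_⟩
    ext z
    simp only [Set.mem_setOf_eq, QLine, hinv, Subtype.ext_iff, opD_val]
  · rintro ⟨x, y, hn, rfl⟩
    refine ⟨x, y, (hnc x y).mpr hn, ?_⟩
    ext z
    simp only [Set.mem_setOf_eq, QLine, hinv, Subtype.ext_iff, opD_val]

end CfsgLib.FischerSp
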