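import Cfsg.Agent.Lib.FischerSp.Basic

/-! The two planes as models. -/

set_option autoImplicit false

namespace CfsgLib.FischerSp

open Cfsg Cfsg.LineSystem

abbrev AffPt : Type := Fin 2 → ZMod 3

/-- third point in the affine plane -/
def tAff (p q : AffPt) : AffPt := -p - q

theorem zmod3_three (a : ZMod 3) : a + a + a = 0 := by revert a; decide

theorem zmod3_cover : ∀ c1 c2 c : ZMod 3, c1 ≠ c2 → c = c1 ∨ c = c2 ∨ c = -c1 - c2 := by decide

theorem zmod3_ne : ∀ c1 c2 : ZMod 3, c1 ≠ c2 → -c1 - c2 ≠ c1 ∧ -c1 - c2 ≠ c2 := by decide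

theorem aff_neg_two (v : AffPt) : -v - v = v := by
  funext i
  simp only [Pi.sub_apply, Pi.neg_apply]
  have := zmod3_three (v i)
  linear_combination -this

theorem tAff_line (v w : AffPt) (c1 c2 : ZMod 3) :
    tAff (v + c1 • w) (v + c2 • w) = v + (-c1 - c2) • w := by
  unfold tAff
  have := aff_neg_two v
  funext i
  have h2 := congrFun this i
  simp only [Pi.add_apply, Pi.smul_apply, smul_eq_mul, Pi.sub_apply, Pi.neg_apply] at h2 ⊢
  linear_combination h2

theorem model_aff : Model affinePlaneThree tAff where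
  self p := aff_neg_two p
  third := by
    rintro n ⟨v, w, hw, rfl⟩ p ⟨c1, rfl⟩ q ⟨c2, rfl⟩ hpq
    have hc : c1 ≠ c2 := by
      rintro rfl; exact hpq rfl
    rw [tAff_line]
    have hc3 := zmod3_ne c1 c2 hc
    have inj : ∀ a b : ZMod 3, v + a • w = v + b • w → a = b := by
      intro a b hab
      have : (a - b) • w = 0 := by
        rw [sub_smul]; exact sub_eq_zero.mpr (add_left_cancel hab)
      rcases smul_eq_zero.mp this with h | h
      · exact sub_eq_zero.mp h
      · exact absurd h hw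
    refine ⟨fun h => hc3.1 (inj _ _ h), fun h => hc3.2 (inj _ _ h), ?_⟩
    ext x
    simp only [Set.mem_setOf_eq, Set.mem_insert_iff, Set.mem_singleton_iff]
    constructor
    · rintro ⟨c, rfl⟩
      rcases zmod3_cover c1 c2 c hc with rfl | rfl | rfl
      · exact Or.inl rfl
      · exact Or.inr (Or.inl rfl)
      · exact Or.inr (Or.inr rfl)
    · rintro (rfl | rfl | rfl)
      · exact ⟨_, rfl⟩
      · exact ⟨_, rfl⟩
      · exact ⟨_, rfl⟩
  off := by
    intro p q hpq h
    exfalso
    apply h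
    refine ⟨{x | ∃ c : ZMod 3, x = p + c • (q - p)}, ⟨p, q - p, sub_ne_zero.mpr hpq.symm, rfl⟩, ⟨0, by simp⟩, ⟨1, by simp⟩⟩
  image := by
    rintro p n ⟨v, w, hw, rfl⟩
    refine ⟨-p - v, -w, neg_ne_zero.mpr hw, ?_⟩
    ext x
    simp only [Set.mem_image, Set.mem_setOf_eq]
    constructor
    · rintro ⟨y, ⟨c, rfl⟩, rfl⟩
      refine ⟨c, ?_⟩
      unfold tAff
      funext i
      simp only [Pi.add_apply, Pi.smul_apply, smul_eq_mul, Pi.sub_apply, Pi.neg_apply]
      ring
    · rintro ⟨c, rfl⟩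
      refine ⟨v + c • w, ⟨c, rfl⟩, ?_⟩
      unfold tAff
      funext i
      simp only [Pi.add_apply, Pi.smul_apply, smul_eq_mul, Pi.sub_apply, Pi.neg_apply]
      ring

theorem dual_card_symm : ∀ p q : DualAffinePoint, (p.1 ∩ q.1).card = 1 → (symmDiff p.1 q.1).card = 2 := by
  decide +kernel

/-- third point in the dual affine plane -/
def tDual (p q : DualAffinePoint) : DualAffinePoint :=
  if h : (p.1 ∩ q.1).card = 1 then ⟨symmDiff p.1 q.1, dual_card_symm p q h⟩ else q

theorem dual_self : ∀ p, tDual p p = p := by decide +kernel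

theorem dual_third : ∀ (i : Fin 4) (p q : DualAffinePoint), i ∉ p.1 → i ∉ q.1 → p ≠ q →
    tDual p q ≠ p ∧ tDual p q ≠ q ∧ ∀ s : DualAffinePoint, i ∉ s.1 ↔ s = p ∨ s = q ∨ s = tDual p q := by
  decide +kernel

theorem dual_off : ∀ p q : DualAffinePoint, p ≠ q → (∀ i : Fin 4, ¬ (i ∉ p.1 ∧ i ∉ q.1)) → tDual p q = q := by
  decide +kernel

theorem dual_image : ∀ (p : DualAffinePoint) (i : Fin 4), ∃ j : Fin 4, ∀ s : DualAffinePoint,
    (∃ s' : DualAffinePoint, i ∉ s'.1 ∧ tDual p s' = s) ↔ j ∉ s.1 := by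
  decide +kernel

theorem model_dual : Model dualAffinePlaneTwo tDual where
  self := dual_self
  third := by
    rintro n ⟨i, rfl⟩ p hp q hq hpq
    obtain ⟨h1, h2, h3⟩ := dual_third i p q hp hq hpq
    refine ⟨h1, h2, ?_⟩
    ext s
    simp only [Set.mem_setOf_eq, Set.mem_insert_iff, Set.mem_singleton_iff]
    exact h3 s
  off := by
    intro p q hpq h
    apply dual_off p q hpq
    rintro i ⟨h1, h2⟩
    exact h ⟨_, ⟨i, rfl⟩, h1, h2⟩
  image := by
    rintro p n ⟨i, rfl⟩
    obtain ⟨j, hj⟩ := dual_image p i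
    refine ⟨j, ?_⟩
    ext s
    simp only [Set.mem_image, Set.mem_setOf_eq]
    exact hj s

/-- The image of a line under `t x` is a line, given the dichotomy. -/
theorem image_line_of_model {X : Type*} {L : Set (Set X)} (hPL : IsPartialLinear L)
    (h3 : ∀ l ∈ L, l.ncard = 3) {S : Set X} (hS : IsSubspace L S)
    {P : Type*} {M : Set (Set P)} {t : P → P → P} (hM : Model M t) (e : S ≃ P)
    (he : IsIso (restrict L S) M e) (x : X) (hx : x ∈ S) (l : Set X) (hl : l ∈ L) (hlS : l ⊆ S) :
    lineMap L x '' l ∈ L := by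
  classical
  have hr : ({s : S | s.1 ∈ l} : Set S) ∈ restrict L S := ⟨l, hl, hlS, rfl⟩
  have hn := (he _).mp hr
  have hn' := hM.image (e ⟨x, hx⟩) _ hn
  have hid : e '' (e ⁻¹' (t (e ⟨x, hx⟩) '' (e '' {s : S | s.1 ∈ l}))) = t (e ⟨x, hx⟩) '' (e '' {s : S | s.1 ∈ l}) :=
    e.image_preimage _
  have hr' : e ⁻¹' (t (e ⟨x, hx⟩) '' (e '' {s : S | s.1 ∈ l})) ∈ restrict L S :=
    (he _).mpr (by rwa [hid])
  obtain ⟨l1, hl1, hl1S, hm⟩ := hr'
  have hsub : lineMap L x '' l ⊆ l1 := by
    rintro _ ⟨y, hy, rfl⟩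
    obtain ⟨h, hh⟩ := e_lineMap hPL h3 hS hM e he ⟨x, hx⟩ ⟨y, hlS hy⟩
    have : (⟨lineMap L x y, h⟩ : S) ∈ e ⁻¹' (t (e ⟨x, hx⟩) '' (e '' {s : S | s.1 ∈ l})) := by
      show e ⟨lineMap L x y, h⟩ ∈ t (e ⟨x, hx⟩) '' (e '' {s : S | s.1 ∈ l})
      rw [hh]
      exact ⟨_, ⟨⟨y, hlS hy⟩, hy, rfl⟩, rfl⟩
    rw [hm] at this
    exact this
  have hinj : Function.Injective (lineMap L x) := (lineMap_invol hPL x).injective
  have hcard : (lineMap L x '' l).ncard = 3 := by
    rw [Set.ncard_image_of_injective _ hinj, h3 l hl]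
  have hfin : l1.Finite := Set.finite_of_ncard_ne_zero (by rw [h3 l1 hl1]; norm_num)
  have : lineMap L x '' l = l1 := Set.eq_of_subset_of_ncard_le hsub (by rw [hcard, h3 l1 hl1]) hfin
  rwa [this]

/-- In a Fischer space every `t x` maps lines to lines. -/
theorem image_line {X : Type*} {L : Set (Set X)} (hL : IsFischerSpace L) (x : X) (l : Set X)
    (hl : l ∈ L) : lineMap L x '' l ∈ L := by
  classical
  obtain ⟨hPL, h3, hF⟩ := hL
  obtain ⟨a, b, c, hab, hac, hbc, rfl⟩ := Set.ncard_eq_three.mp (h3 l hl)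
  have hta : lineMap L x '' {a, b, c} = {lineMap L x a, lineMap L x b, lineMap L x c} := by
    simp only [Set.image_insert_eq, Set.image_singleton]
  -- some point of the line is collinear with x, or else the map is the identity on the line
  by_cases hcol : ∃ y ∈ ({a, b, c} : Set X), ∃ z, Tri L x y z
  · obtain ⟨y, hy, z, hz⟩ := hcol
    by_cases hxl : x ∈ ({a, b, c} : Set X)
    · -- the line passes through x
      have : ({a, b, c} : Set X) = {x, y, z} :=
        hPL _ hl _ hz.2.2.2 x y hz.1 hxl hy (by simp) (by simp)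
      rw [this] at hl ⊢
      have hset : lineMap L x '' {x, y, z} = {x, y, z} := by
        have hxx : lineMap L x x = x := lineMap_of_not (fun ⟨z, hz⟩ => hz.1 rfl)
        simp only [Set.image_insert_eq, Set.image_singleton, hxx, lineMap_of_tri hPL hz,
          lineMap_of_tri hPL hz.symm23]
        rw [Set.pair_comm]
      rwa [hset]
    · -- a second line
      have hne : ({a, b, c} : Set X) ≠ {x, y, z} := fun h => hxl (by rw [h]; simp)
      have hmeet : (({a, b, c} : Set X) ∩ {x, y, z}).Nonempty := ⟨y, hy, by simp⟩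
      set S := span L (({a, b, c} : Set X) ∪ {x, y, z}) with hSdef
      have hS : IsSubspace L S := span_isSubspace _ _
      have hsub := subset_span L (({a, b, c} : Set X) ∪ {x, y, z})
      have hlS : ({a, b, c} : Set X) ⊆ S := fun t ht => hsub (Or.inl ht)
      have hxS : x ∈ S := hsub (Or.inr (by simp))
      rcases hF _ hl _ hz.2.2.2 hne hmeet with ⟨e, he⟩ | ⟨e, he⟩
      · exact image_line_of_model hPL h3 hS model_dual e he x hxS _ hl hlS
      · exact image_line_of_model hPL h3 hS model_aff e he x hxS _ hl hlS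
  · have hfix : ∀ y ∈ ({a, b, c} : Set X), lineMap L x y = y := fun y hy =>
      lineMap_of_not (fun h => hcol ⟨y, hy, h⟩)
    rw [hta, hfix a (by simp), hfix b (by simp), hfix c (by simp)]
    exact hl

/-- `t x` as a permutation -/
noncomputable def tPerm {X : Type*} {L : Set (Set X)} (hPL : IsPartialLinear L) (x : X) : Equiv.Perm X :=
  (lineMap_invol hPL x).toPerm

theorem tPerm_apply {X : Type*} {L : Set (Set X)} (hPL : IsPartialLinear L) (x y : X) :
    tPerm hPL x y = lineMap L x y := rfl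

theorem tPerm_isIso {X : Type*} {L : Set (Set X)} (hL : IsFischerSpace L) (x : X) :
    IsIso L L (tPerm hL.1 x) := by
  intro l
  constructor
  · intro hl
    exact image_line hL x l hl
  · intro hl
    have := image_line hL x _ hl
    have h2 : lineMap L x '' (⇑(tPerm hL.1 x) '' l) = l := by
      rw [← Set.image_comp]
      have : lineMap L x ∘ ⇑(tPerm hL.1 x) = id := by
        funext y
        exact lineMap_invol hL.1 x y
      rw [this, Set.image_id]
    rwa [h2] at this

theorem tPerm_mul_self {X : Type*} {L : Set (Set X)} (hPL : IsPartialLinear L) (x : X) :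
    tPerm hPL x * tPerm hPL x = 1 := by
  ext y
  exact lineMap_invol hPL x y

/-- conjugation by `t x` -/
theorem tPerm_conj {X : Type*} {L : Set (Set X)} (hL : IsFischerSpace L) (x y : X) :
    tPerm hL.1 x * tPerm hL.1 y * tPerm hL.1 x = tPerm hL.1 (lineMap L x y) := by
  ext w
  have h := lineMap_conj hL.1 (tPerm hL.1 x) (tPerm_isIso hL x) y (lineMap L x w)
  simp only [Equiv.Perm.coe_mul, Function.comp_apply, tPerm_apply] at h ⊢
  rw [lineMap_invol hL.1 x w] at h
  exact h.symm

end CfsgLib.FischerSp
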