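import Cfsg.Agent.Lib.FischerSp.Quandle

/-! The two planes inside a quandle of 3-transpositions. -/

set_option autoImplicit false
set_option maxRecDepth 100000

namespace CfsgLib.FischerSp

open Cfsg Cfsg.LineSystem

variable {Q : Type*} {op : Q → Q → Q}

def tab6Rows : List (List ℕ) :=
  [[0, 3, 2, 1, 5, 4], [3, 1, 4, 0, 2, 5], [0, 4, 2, 5, 1, 3], [1, 0, 5, 3, 4, 2], [5, 2, 1, 3, 4, 0], [4, 1, 3, 2, 0, 5]]

/-- third point table on six points -/
def tab6 (i j : Fin 6) : Fin 6 := Fin.ofNat 6 ((tab6Rows.getD i.val []).getD j.val 0)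

theorem tab6_law : ∀ p q r, tab6 (tab6 p q) r = tab6 p (tab6 q (tab6 p r)) := by decide +kernel

/-- third point table on nine points -/
def tab9 (i j : Fin 9) : Fin 9 :=
  Fin.ofNat 9 (3 * ((6 - i.val / 3 - j.val / 3) % 3) + (6 - i.val % 3 - j.val % 3) % 3)

theorem tab9_law : ∀ p q r, tab9 (tab9 p q) r = tab9 p (tab9 q (tab9 p r)) := by decide +kernel

/-- six points as a function -/
def v6 (a b c d e f : Q) (i : Fin 6) : Q := [a, b, c, d, e, f].getD i.val a

/-- nine points as a function -/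
def v9 (a b c d e f g k l : Q) (i : Fin 9) : Q := [a, b, c, d, e, f, g, k, l].getD i.val a

section dual

variable (h : FQ op) {x y u : Q} (hxy : NC op x y) (hxu : NC op x u) (hyu : op y u = u) (hne : y ≠ u)

include h hxy hxu hyu in
theorem dual_good : ∀ i, Good op (v6 y x u (op x y) (op x u) (op y (op x u))) tab6 i := by
  have eyx : op y x = op x y := (NC.eq h hxy).symm
  have eux : op u x = op x u := (NC.eq h hxu).symm
  have euy : op u y = y := h.comm_symm hyu
  have euz : op u (op x y) = op y (op x u) := by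
    rw [← eyx, h.dist, euy, eux]
  have hzu : NC op (op x y) u := by
    intro e
    have e2 := h.comm_symm e
    rw [euz, ← eyx] at e2
    have e3 := h.inj _ e2
    have e4 := (Tr.of_nc h hxu).swap23 h
    exact NC.ne h e4.1 e3.symm
  have ezu : op (op x y) u = op y (op x u) := by
    rw [NC.eq h hzu, euz]
  have exw : op x (op y (op x u)) = op y (op x u) := by
    rw [h.dist, h.invol, ezu]
  have g1 : Good op (v6 y x u (op x y) (op x u) (op y (op x u))) tab6 1 := by
    intro j
    fin_cases j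
    · exact rfl
    · exact (h.idem x).symm
    · exact rfl
    · exact (h.invol x y).symm
    · exact (h.invol x u).symm
    · exact exw.symm
  have g0 : Good op (v6 y x u (op x y) (op x u) (op y (op x u))) tab6 0 := by
    intro j
    fin_cases j
    · exact (h.idem y).symm
    · exact eyx.symm
    · exact hyu.symm
    · show x = op y (op x y)
      rw [← eyx, h.invol]
    · exact rfl
    · exact (h.invol y _).symm
  have g2 : Good op (v6 y x u (op x y) (op x u) (op y (op x u))) tab6 2 := by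
    intro j
    fin_cases j
    · exact euy.symm
    · exact eux.symm
    · exact (h.idem u).symm
    · exact euz.symm
    · show x = op u (op x u)
      rw [← eux, h.invol]
    · show op x y = op u (op y (op x u))
      rw [← euz, h.invol]
  have g3 : Good op (v6 y x u (op x y) (op x u) (op y (op x u))) tab6 3 := by
    have gg := good_tab h tab6_law g1 g0
    exact gg
  have g4 : Good op (v6 y x u (op x y) (op x u) (op y (op x u))) tab6 4 := by
    have gg := good_tab h tab6_law g1 g2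
    exact gg
  have g5 : Good op (v6 y x u (op x y) (op x u) (op y (op x u))) tab6 5 := by
    have gg := good_tab h tab6_law g0 g4
    exact gg
  intro i
  fin_cases i
  · exact g0
  · exact g1
  · exact g2
  · exact g3
  · exact g4
  · exact g5

/-- `i, j` are different and not complementary -/
def Col6 (i j : Fin 6) : Prop :=
  i ≠ j ∧ ¬ (i = 0 ∧ j = 2) ∧ ¬ (i = 2 ∧ j = 0) ∧ ¬ (i = 1 ∧ j = 5) ∧ ¬ (i = 5 ∧ j = 1) ∧
    ¬ (i = 3 ∧ j = 4) ∧ ¬ (i = 4 ∧ j = 3)

instance (i j : Fin 6) : Decidable (Col6 i j) := by unfold Col6; infer_instance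

theorem col6_cases : ∀ i j : Fin 6, i ≠ j → ¬ Col6 i j → (i = 0 ∧ j = 2) ∨ (i = 2 ∧ j = 0) ∨ (i = 1 ∧ j = 5) ∨ (i = 5 ∧ j = 1) ∨
        (i = 3 ∧ j = 4) ∨ (i = 4 ∧ j = 3) := by decide

include h hxy hxu hyu in
theorem dual_nc (i j : Fin 6) (hc : Col6 i j) :
    NC op ((v6 y x u (op x y) (op x u) (op y (op x u))) i) ((v6 y x u (op x y) (op x u) (op y (op x u))) j) := by
  have hG := dual_good h hxy hxu hyu
  set f := (v6 y x u (op x y) (op x u) (op y (op x u))) with hf
  have n1_0 : NC op (f 1) (f 0) := hxy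
  have n1_2 : NC op (f 1) (f 2) := hxu
  have n0_1 : NC op (f 0) (f 1) := NC.symm h n1_0
  have n3_0 : NC op (f 3) (f 0) := NC_tab h (hG 0) n1_0
  have n1_3 : NC op (f 1) (f 3) := NC_tab h (hG 1) n1_0
  have n4_0 : NC op (f 4) (f 0) := NC_tab h (hG 2) n1_0
  have n2_5 : NC op (f 2) (f 5) := NC_tab h (hG 4) n1_0
  have n1_4 : NC op (f 1) (f 4) := NC_tab h (hG 5) n1_0
  have n2_1 : NC op (f 2) (f 1) := NC.symm h n1_2
  have n3_2 : NC op (f 3) (f 2) := NC_tab h (hG 0) n1_2
  have n4_2 : NC op (f 4) (f 2) := NC_tab h (hG 2) n1_2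
  have n0_5 : NC op (f 0) (f 5) := NC_tab h (hG 3) n1_2
  have n0_3 : NC op (f 0) (f 3) := NC_tab h (hG 0) n0_1
  have n3_1 : NC op (f 3) (f 1) := NC_tab h (hG 1) n0_1
  have n0_4 : NC op (f 0) (f 4) := NC_tab h (hG 2) n0_1
  have n5_2 : NC op (f 5) (f 2) := NC_tab h (hG 4) n0_1
  have n4_1 : NC op (f 4) (f 1) := NC_tab h (hG 5) n0_1
  have n5_0 : NC op (f 5) (f 0) := NC_tab h (hG 2) n3_0
  have n3_5 : NC op (f 3) (f 5) := NC_tab h (hG 4) n3_0
  have n2_4 : NC op (f 2) (f 4) := NC_tab h (hG 5) n3_0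
  have n4_5 : NC op (f 4) (f 5) := NC_tab h (hG 2) n1_3
  have n2_3 : NC op (f 2) (f 3) := NC_tab h (hG 4) n1_3
  have n5_3 : NC op (f 5) (f 3) := NC_tab h (hG 4) n0_3
  have n5_4 : NC op (f 5) (f 4) := NC_tab h (hG 2) n3_1
  revert hc
  revert i j
  intro i j
  fin_cases i <;> fin_cases j <;> intro hc <;>
    first
    | exact absurd hc (by decide)
    | exact n1_0 | exact n1_2 | exact n0_1 | exact n3_0 | exact n1_3 | exact n4_0 | exact n2_5 | exact n1_4 | exact n2_1 | exact n3_2 | exact n4_2 | exact n0_5 | exact n0_3 | exact n3_1 | exact n0_4 | exact n5_2 | exact n4_1 | exact n5_0 | exact n3_5 | exact n2_4 | exact n4_5 | exact n2_3 | exact n5_3 | exact n5_4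

include h hxy hxu hyu hne in
theorem dual_inj : Function.Injective (v6 y x u (op x y) (op x u) (op y (op x u))) := by
  have hn := dual_nc h hxy hxu hyu
  have hzv : op x y ≠ op x u := fun e => hne (h.inj _ e)
  have hxw : x ≠ op y (op x u) := by
    intro e
    apply hzv
    have e2 := congrArg (op y) e
    rw [h.invol] at e2
    rw [NC.eq h hxy]
    exact e2
  intro i j e
  by_contra hij
  by_cases hc : Col6 i j
  · have := hn i j hc
    rw [e] at this
    exact NC.ne h this rfl
  · have hcases : (i = 0 ∧ j = 2) ∨ (i = 2 ∧ j = 0) ∨ (i = 1 ∧ j = 5) ∨ (i = 5 ∧ j = 1) ∨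
        (i = 3 ∧ j = 4) ∨ (i = 4 ∧ j = 3) := by
      exact col6_cases i j hij hc
    rcases hcases with ⟨rfl, rfl⟩ | ⟨rfl, rfl⟩ | ⟨rfl, rfl⟩ | ⟨rfl, rfl⟩ | ⟨rfl, rfl⟩ | ⟨rfl, rfl⟩
    · exact hne e
    · exact hne e.symm
    · exact hxw e
    · exact hxw e.symm
    · exact hzv e
    · exact hzv e.symm

end dual

section aff

variable (h : FQ op) {x y u : Q} (hxy : NC op x y) (hxu : NC op x u) (hyu : NC op y u)
  (hyv : NC op y (op x u)) (hzu : NC op (op x y) u) (hzv : NC op (op x y) (op x u))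

include h hxy hxu hyu hzu in
theorem aff_good : ∀ i, Good op
    (v9 x u (op x u) y (op (op x y) (op x u)) (op (op x y) u) (op x y) (op y (op x u)) (op y u)) tab9 i := by
  have eyx : op y x = op x y := (NC.eq h hxy).symm
  have eux : op u x = op x u := (NC.eq h hxu).symm
  have euy : op u y = op y u := (NC.eq h hyu).symm
  have euz : op u (op x y) = op (op x y) u := (NC.eq h hzu).symm
  have exa : op x (op y u) = op (op x y) (op x u) := h.dist _ _ _
  have exb : op x (op y (op x u)) = op (op x y) u := by rw [h.dist, h.invol]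
  have eyc : op y (op (op x y) (op x u)) = op (op x y) u := by
    rw [h.dist, ← eyx, h.invol, eyx]
    rw [exb]
  have hxa : NC op x (op y u) := by
    intro e
    rw [exa] at e
    have e2 := congrArg (op y) e
    rw [eyc, h.invol] at e2
    exact hzu e2
  have eax : op (op y u) x = op (op x y) (op x u) := by
    rw [← NC.eq h hxa, exa]
  have eub : op u (op y (op x u)) = op (op x y) (op x u) := by
    have euv : op u (op x u) = x := by rw [← eux, h.invol]
    rw [h.dist, euy, euv, eax]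
  set f := (v9 x u (op x u) y (op (op x y) (op x u)) (op (op x y) u) (op x y) (op y (op x u)) (op y u)) with hf
  have g0 : Good op f tab9 0 := by
    intro j
    fin_cases j
    · exact (h.idem x).symm
    · exact rfl
    · exact (h.invol x u).symm
    · exact rfl
    · show op y u = op x (op (op x y) (op x u))
      rw [← exa, h.invol]
    · show op y (op x u) = op x (op (op x y) u)
      rw [← exb, h.invol]
    · exact (h.invol x y).symm
    · exact exb.symm
    · exact exa.symm
  have g3 : Good op f tab9 3 := by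
    intro j
    fin_cases j
    · exact eyx.symm
    · exact rfl
    · exact rfl
    · exact (h.idem y).symm
    · exact eyc.symm
    · show op (op x y) (op x u) = op y (op (op x y) u)
      rw [← eyc, h.invol]
    · show x = op y (op x y)
      rw [← eyx, h.invol]
    · exact (h.invol y _).symm
    · exact (h.invol y _).symm
  have g1 : Good op f tab9 1 := by
    intro j
    fin_cases j
    · exact eux.symm
    · exact (h.idem u).symm
    · show x = op u (op x u)
      rw [← eux, h.invol]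
    · exact euy.symm
    · show op y (op x u) = op u (op (op x y) (op x u))
      rw [← eub, h.invol]
    · show op x y = op u (op (op x y) u)
      rw [← euz, h.invol]
    · exact euz.symm
    · exact eub.symm
    · show y = op u (op y u)
      rw [← euy, h.invol]
  have g2 : Good op f tab9 2 := by
    have gg := good_tab h tab9_law g0 g1
    exact gg
  have g6 : Good op f tab9 6 := by
    have gg := good_tab h tab9_law g0 g3
    exact gg
  have g8 : Good op f tab9 8 := by
    have gg := good_tab h tab9_law g3 g1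
    exact gg
  have g7 : Good op f tab9 7 := by
    have gg := good_tab h tab9_law g3 g2
    exact gg
  have g4 : Good op f tab9 4 := by
    have gg := good_tab h tab9_law g6 g2
    exact gg
  have g5 : Good op f tab9 5 := by
    have gg := good_tab h tab9_law g6 g1
    exact gg
  intro i
  fin_cases i
  · exact g0
  · exact g1
  · exact g2
  · exact g3
  · exact g4
  · exact g5
  · exact g6
  · exact g7
  · exact g8

include h hxy hxu hyu hzu in
theorem aff_nc (i j : Fin 9) (hc : i ≠ j) :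
    NC op ((v9 x u (op x u) y (op (op x y) (op x u)) (op (op x y) u) (op x y) (op y (op x u)) (op y u)) i)
      ((v9 x u (op x u) y (op (op x y) (op x u)) (op (op x y) u) (op x y) (op y (op x u)) (op y u)) j) := by
  have hG := aff_good h hxy hxu hyu hzu
  have eyc : op y (op (op x y) (op x u)) = op (op x y) u := by
    rw [h.dist, ← (NC.eq h hxy).symm, h.invol, (NC.eq h hxy).symm, h.dist, h.invol]
  have hxa : NC op x (op y u) := by
    intro e
    rw [h.dist] at e
    have e2 := congrArg (op y) e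
    rw [eyc, h.invol] at e2
    exact hzu e2
  set f := (v9 x u (op x u) y (op (op x y) (op x u)) (op (op x y) u) (op x y) (op y (op x u)) (op y u)) with hf
  have n0_3 : NC op (f 0) (f 3) := hxy
  have n0_1 : NC op (f 0) (f 1) := hxu
  have n3_1 : NC op (f 3) (f 1) := hyu
  have n0_8 : NC op (f 0) (f 8) := hxa
  have n3_0 : NC op (f 3) (f 0) := NC.symm h n0_3
  have n0_6 : NC op (f 0) (f 6) := NC_tab h (hG 0) n0_3
  have n2_8 : NC op (f 2) (f 8) := NC_tab h (hG 1) n0_3
  have n1_7 : NC op (f 1) (f 7) := NC_tab h (hG 2) n0_3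
  have n6_3 : NC op (f 6) (f 3) := NC_tab h (hG 3) n0_3
  have n8_5 : NC op (f 8) (f 5) := NC_tab h (hG 4) n0_3
  have n7_4 : NC op (f 7) (f 4) := NC_tab h (hG 5) n0_3
  have n5_2 : NC op (f 5) (f 2) := NC_tab h (hG 7) n0_3
  have n4_1 : NC op (f 4) (f 1) := NC_tab h (hG 8) n0_3
  have n1_0 : NC op (f 1) (f 0) := NC.symm h n0_1
  have n0_2 : NC op (f 0) (f 2) := NC_tab h (hG 0) n0_1
  have n2_1 : NC op (f 2) (f 1) := NC_tab h (hG 1) n0_1
  have n6_8 : NC op (f 6) (f 8) := NC_tab h (hG 3) n0_1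
  have n8_7 : NC op (f 8) (f 7) := NC_tab h (hG 4) n0_1
  have n7_6 : NC op (f 7) (f 6) := NC_tab h (hG 5) n0_1
  have n3_5 : NC op (f 3) (f 5) := NC_tab h (hG 6) n0_1
  have n5_4 : NC op (f 5) (f 4) := NC_tab h (hG 7) n0_1
  have n4_3 : NC op (f 4) (f 3) := NC_tab h (hG 8) n0_1
  have n1_3 : NC op (f 1) (f 3) := NC.symm h n3_1
  have n6_2 : NC op (f 6) (f 2) := NC_tab h (hG 0) n3_1
  have n8_1 : NC op (f 8) (f 1) := NC_tab h (hG 1) n3_1
  have n7_0 : NC op (f 7) (f 0) := NC_tab h (hG 2) n3_1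
  have n3_8 : NC op (f 3) (f 8) := NC_tab h (hG 3) n3_1
  have n5_7 : NC op (f 5) (f 7) := NC_tab h (hG 4) n3_1
  have n4_6 : NC op (f 4) (f 6) := NC_tab h (hG 5) n3_1
  have n0_5 : NC op (f 0) (f 5) := NC_tab h (hG 6) n3_1
  have n2_4 : NC op (f 2) (f 4) := NC_tab h (hG 7) n3_1
  have n8_0 : NC op (f 8) (f 0) := NC.symm h n0_8
  have n0_4 : NC op (f 0) (f 4) := NC_tab h (hG 0) n0_8
  have n2_3 : NC op (f 2) (f 3) := NC_tab h (hG 1) n0_8
  have n1_5 : NC op (f 1) (f 5) := NC_tab h (hG 2) n0_8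
  have n6_1 : NC op (f 6) (f 1) := NC_tab h (hG 3) n0_8
  have n7_2 : NC op (f 7) (f 2) := NC_tab h (hG 5) n0_8
  have n3_7 : NC op (f 3) (f 7) := NC_tab h (hG 6) n0_8
  have n5_6 : NC op (f 5) (f 6) := NC_tab h (hG 7) n0_8
  have n4_8 : NC op (f 4) (f 8) := NC_tab h (hG 8) n0_8
  have n6_0 : NC op (f 6) (f 0) := NC_tab h (hG 0) n3_0
  have n8_2 : NC op (f 8) (f 2) := NC_tab h (hG 1) n3_0
  have n7_1 : NC op (f 7) (f 1) := NC_tab h (hG 2) n3_0
  have n3_6 : NC op (f 3) (f 6) := NC_tab h (hG 3) n3_0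
  have n5_8 : NC op (f 5) (f 8) := NC_tab h (hG 4) n3_0
  have n4_7 : NC op (f 4) (f 7) := NC_tab h (hG 5) n3_0
  have n2_5 : NC op (f 2) (f 5) := NC_tab h (hG 7) n3_0
  have n1_4 : NC op (f 1) (f 4) := NC_tab h (hG 8) n3_0
  have n2_0 : NC op (f 2) (f 0) := NC_tab h (hG 0) n1_0
  have n1_2 : NC op (f 1) (f 2) := NC_tab h (hG 1) n1_0
  have n8_6 : NC op (f 8) (f 6) := NC_tab h (hG 3) n1_0
  have n7_8 : NC op (f 7) (f 8) := NC_tab h (hG 4) n1_0
  have n6_7 : NC op (f 6) (f 7) := NC_tab h (hG 5) n1_0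
  have n5_3 : NC op (f 5) (f 3) := NC_tab h (hG 6) n1_0
  have n4_5 : NC op (f 4) (f 5) := NC_tab h (hG 7) n1_0
  have n3_4 : NC op (f 3) (f 4) := NC_tab h (hG 8) n1_0
  have n2_6 : NC op (f 2) (f 6) := NC_tab h (hG 0) n1_3
  have n1_8 : NC op (f 1) (f 8) := NC_tab h (hG 1) n1_3
  have n0_7 : NC op (f 0) (f 7) := NC_tab h (hG 2) n1_3
  have n8_3 : NC op (f 8) (f 3) := NC_tab h (hG 3) n1_3
  have n7_5 : NC op (f 7) (f 5) := NC_tab h (hG 4) n1_3
  have n6_4 : NC op (f 6) (f 4) := NC_tab h (hG 5) n1_3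
  have n5_0 : NC op (f 5) (f 0) := NC_tab h (hG 6) n1_3
  have n4_2 : NC op (f 4) (f 2) := NC_tab h (hG 7) n1_3
  have n4_0 : NC op (f 4) (f 0) := NC_tab h (hG 0) n8_0
  have n3_2 : NC op (f 3) (f 2) := NC_tab h (hG 1) n8_0
  have n5_1 : NC op (f 5) (f 1) := NC_tab h (hG 2) n8_0
  have n1_6 : NC op (f 1) (f 6) := NC_tab h (hG 3) n8_0
  have n2_7 : NC op (f 2) (f 7) := NC_tab h (hG 5) n8_0
  have n7_3 : NC op (f 7) (f 3) := NC_tab h (hG 6) n8_0
  have n6_5 : NC op (f 6) (f 5) := NC_tab h (hG 7) n8_0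
  have n8_4 : NC op (f 8) (f 4) := NC_tab h (hG 8) n8_0
  revert hc
  revert i j
  intro i j
  fin_cases i <;> fin_cases j <;> intro hc <;>
    first
    | exact absurd rfl hc
    | exact n0_3 | exact n0_1 | exact n3_1 | exact n0_8 | exact n3_0 | exact n0_6 | exact n2_8 | exact n1_7 | exact n6_3 | exact n8_5 | exact n7_4 | exact n5_2 | exact n4_1 | exact n1_0 | exact n0_2 | exact n2_1 | exact n6_8 | exact n8_7 | exact n7_6 | exact n3_5 | exact n5_4 | exact n4_3 | exact n1_3 | exact n6_2 | exact n8_1 | exact n7_0 | exact n3_8 | exact n5_7 | exact n4_6 | exact n0_5 | exact n2_4 | exact n8_0 | exact n0_4 | exact n2_3 | exact n1_5 | exact n6_1 | exact n7_2 | exact n3_7 | exact n5_6 | exact n4_8 | exact n6_0 | exact n8_2 | exact n7_1 | exact n3_6 | exact n5_8 | exact n4_7 | exact n2_5 | exact n1_4 | exact n2_0 | exact n1_2 | exact n8_6 | exact n7_8 | exact n6_7 | exact n5_3 | exact n4_5 | exact n3_4 | exact n2_6 | exact n1_8 | exact n0_7 | exact n8_3 | exact n7_5 | exact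 n6_4 | exact n5_0 | exact n4_2 | exact n4_0 | exact n3_2 | exact n5_1 | exact n1_6 | exact n2_7 | exact n7_3 | exact n6_5 | exact n8_4

end aff

end CfsgLib.FischerSp
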