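import Cfsg.Agent.Lib.FischerSp.Models

/-! Quandles of 3-transpositions and their line systems. -/

set_option autoImplicit false

namespace CfsgLib.FischerSp

open Cfsg Cfsg.LineSystem

variable {Q : Type*} {op : Q → Q → Q}

/-- the four laws of `a ▷ b = a b a` on a set of 3-transpositions -/
structure FQ (op : Q → Q → Q) : Prop where
  idem : ∀ a, op a a = a
  invol : ∀ a b, op a (op a b) = b
  dist : ∀ a b c, op a (op b c) = op (op a b) (op a c)
  dich : ∀ a b, op a b = b ∨ op a b = op b a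

/-- non-commuting -/
def NC (op : Q → Q → Q) (a b : Q) : Prop := op a b ≠ b

/-- the line through two points -/
def QLine (op : Q → Q → Q) (x y : Q) : Set Q := {z | z = x ∨ z = y ∨ z = op y x}

/-- all lines -/
def QL (op : Q → Q → Q) : Set (Set Q) := {l | ∃ x y, NC op x y ∧ l = QLine op x y}

theorem FQ.inj (h : FQ op) (a : Q) : Function.Injective (op a) := fun b c e => by
  have := congrArg (op a) e
  rwa [h.invol, h.invol] at this

theorem FQ.comm_symm (h : FQ op) {a b : Q} (hab : op a b = b) : op b a = a := by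
  rcases h.dich b a with e | e
  · exact e
  · rw [hab] at e
    have h2 := h.invol b a
    rw [e, h.idem] at h2
    rw [← h2, h.idem]

theorem NC.symm (h : FQ op) {a b : Q} (hab : NC op a b) : NC op b a := fun e => hab (h.comm_symm e)

theorem NC.ne (h : FQ op) {a b : Q} (hab : NC op a b) : a ≠ b := by
  rintro rfl
  exact hab (h.idem a)

theorem NC.eq (h : FQ op) {a b : Q} (hab : NC op a b) : op a b = op b a :=
  (h.dich a b).resolve_left hab

/-- three points of a line -/
def Tr (op : Q → Q → Q) (x y w : Q) : Prop := NC op x y ∧ op x y = w ∧ op y x = w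

theorem Tr.swap12 (h : FQ op) {x y w : Q} (t : Tr op x y w) : Tr op y x w :=
  ⟨NC.symm h t.1, t.2.2, t.2.1⟩

theorem Tr.swap23 (h : FQ op) {x y w : Q} (t : Tr op x y w) : Tr op x w y := by
  obtain ⟨h1, h2, h3⟩ := t
  have e : op x w = y := by rw [← h2, h.invol]
  have hn : NC op x w := by
    intro h4
    apply h1
    rw [h2]
    exact (e.symm.trans h4).symm
  exact ⟨hn, e, by rw [NC.eq h (NC.symm h hn), e]⟩

theorem Tr.line {x y w : Q} (t : Tr op x y w) : QLine op x y = {x, y, w} := by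
  ext z
  simp only [QLine, Set.mem_setOf_eq, Set.mem_insert_iff, Set.mem_singleton_iff, t.2.2]

theorem Tr.of_nc (h : FQ op) {x y : Q} (hn : NC op x y) : Tr op x y (op x y) :=
  ⟨hn, rfl, (NC.eq h hn).symm⟩

theorem mem_tr (h : FQ op) {x y w p q : Q} (t : Tr op x y w) (hp : p ∈ ({x, y, w} : Set Q))
    (hq : q ∈ ({x, y, w} : Set Q)) (hne : p ≠ q) :
    ∃ r, Tr op p q r ∧ QLine op p q = QLine op x y := by
  have t1 := t
  have t2 := t.swap12 h
  have t3 := t.swap23 h
  have t4 := t3.swap12 h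
  have t5 := t4.swap23 h
  have t6 := t5.swap12 h
  have e := t.line
  simp only [Set.mem_insert_iff, Set.mem_singleton_iff] at hp hq
  rcases hp with rfl | rfl | rfl <;> rcases hq with rfl | rfl | rfl
  · exact absurd rfl hne
  · exact ⟨_, t1, rfl⟩
  · exact ⟨_, t3, by rw [t3.line, e, Set.pair_comm]⟩
  · exact ⟨_, t2, by rw [t2.line, e, Set.insert_comm]⟩
  · exact absurd rfl hne
  · exact ⟨_, t6, by
      rw [t6.line, e]; ext z; simp only [Set.mem_insert_iff, Set.mem_singleton_iff]; tauto⟩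
  · exact ⟨_, t4, by
      rw [t4.line, e]; ext z; simp only [Set.mem_insert_iff, Set.mem_singleton_iff]; tauto⟩
  · exact ⟨_, t5, by
      rw [t5.line, e]; ext z; simp only [Set.mem_insert_iff, Set.mem_singleton_iff]; tauto⟩
  · exact absurd rfl hne

theorem mem_ql (h : FQ op) {x y p q : Q} (hn : NC op x y) (hp : p ∈ QLine op x y)
    (hq : q ∈ QLine op x y) (hne : p ≠ q) : NC op p q ∧ QLine op p q = QLine op x y := by
  have t := Tr.of_nc h hn
  rw [t.line] at hp hq
  obtain ⟨r, hr, e⟩ := mem_tr h t hp hq hne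
  exact ⟨hr.1, e⟩

theorem ql_partial (h : FQ op) : IsPartialLinear (QL op) := by
  rintro _ ⟨a, b, hab, rfl⟩ _ ⟨c, d, hcd, rfl⟩ x y hxy h1 h2 h3 h4
  rw [← (mem_ql h hab h1 h2 hxy).2, (mem_ql h hcd h3 h4 hxy).2]

theorem ql_card (h : FQ op) : ∀ l ∈ QL op, l.ncard = 3 := by
  rintro _ ⟨a, b, hab, rfl⟩
  have t := Tr.of_nc h hab
  rw [t.line]
  exact Set.ncard_eq_three.mpr ⟨a, b, op a b, NC.ne h hab, NC.ne h (t.swap23 h).1,
    NC.ne h ((t.swap12 h).swap23 h).1, rfl⟩

theorem line_through (h : FQ op) {l : Set Q} (hl : l ∈ QL op) {t : Q} (ht : t ∈ l) :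
    ∃ y, NC op t y ∧ l = QLine op t y := by
  obtain ⟨a, b, hab, rfl⟩ := hl
  by_cases hta : t = a
  · subst hta; exact ⟨b, hab, rfl⟩
  · have ha : a ∈ QLine op a b := Or.inl rfl
    obtain ⟨h1, h2⟩ := mem_ql h hab ht ha hta
    exact ⟨a, h1, h2.symm⟩

/-- The generic transport: a map from a model onto a line-closed set. -/
theorem iso_of_phi (h : FQ op) {P : Type*} {M : Set (Set P)} {t : P → P → P} (hM : Model M t)
    (hM2 : ∀ n ∈ M, ∃ p q, p ≠ q ∧ p ∈ n ∧ q ∈ n) (φ : P → Q) (hinj : Function.Injective φ)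
    (F1 : ∀ p q, φ (t p q) = op (φ p) (φ q))
    (F3 : ∀ p q, p ≠ q → (∃ n ∈ M, p ∈ n ∧ q ∈ n) → NC op (φ p) (φ q))
    (T : Set Q) (hT1 : T ⊆ Set.range φ) (hT2 : ∀ p, φ p ∈ span (QL op) T) :
    Isomorphic (restrict (QL op) (span (QL op) T)) M := by
  classical
  have hsub : IsSubspace (QL op) (Set.range φ) := by
    rintro _ ⟨x, y, hn, rfl⟩ _ ⟨p, rfl⟩ _ ⟨q, rfl⟩ hne ha hb z hz
    rw [← (mem_ql h hn ha hb hne).2] at hz
    rcases hz with rfl | rfl | rfl
    · exact ⟨p, rfl⟩
    · exact ⟨q, rfl⟩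
    · exact ⟨t q p, F1 q p⟩
  have hspan : span (QL op) T = Set.range φ := by
    apply Set.Subset.antisymm
    · exact Set.sInter_subset_of_mem ⟨hT1, hsub⟩
    · rintro _ ⟨p, rfl⟩
      exact hT2 p
  let ψ : P → span (QL op) T := fun p => ⟨φ p, hT2 p⟩
  have hψ : Function.Bijective ψ := by
    constructor
    · intro a b e
      exact hinj (congrArg Subtype.val e)
    · rintro ⟨s, hs⟩
      rw [hspan] at hs
      obtain ⟨p, rfl⟩ := hs
      exact ⟨p, rfl⟩
  let e := (Equiv.ofBijective ψ hψ).symm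
  have he1 : ∀ s, φ (e s) = s.1 := fun s =>
    congrArg Subtype.val ((Equiv.ofBijective ψ hψ).apply_symm_apply s)
  have he2 : ∀ p, e (ψ p) = p := fun p => (Equiv.ofBijective ψ hψ).symm_apply_apply p
  refine ⟨e, ?_⟩
  intro l'
  constructor
  · rintro ⟨_, ⟨x, y, hn, rfl⟩, hl0S, rfl⟩
    have hxS := hl0S (show x ∈ QLine op x y from Or.inl rfl)
    have hyS := hl0S (show y ∈ QLine op x y from Or.inr (Or.inl rfl))
    rw [hspan] at hxS hyS
    obtain ⟨p, rfl⟩ := hxS
    obtain ⟨q, rfl⟩ := hyS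
    have hpq : p ≠ q := by
      rintro rfl
      exact NC.ne h hn rfl
    have hcol : ∃ n ∈ M, p ∈ n ∧ q ∈ n := by
      by_contra hc
      have := hM.off p q hpq hc
      apply hn
      rw [← F1, this]
    obtain ⟨n, hn', hp, hq⟩ := hcol
    obtain ⟨h1, h2, h3⟩ := hM.third n hn' p hp q hq hpq
    have : e '' {s | s.1 ∈ QLine op (φ p) (φ q)} = n := by
      rw [h3]
      ext r
      simp only [Set.mem_image, Set.mem_setOf_eq, Set.mem_insert_iff, Set.mem_singleton_iff, QLine]
      constructor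
      · rintro ⟨s, hs, rfl⟩
        rw [← he1 s, ← NC.eq h hn, ← F1] at hs
        rcases hs with hs | hs | hs
        · exact Or.inl (hinj hs)
        · exact Or.inr (Or.inl (hinj hs))
        · exact Or.inr (Or.inr (hinj hs))
      · intro hr
        refine ⟨ψ r, ?_, he2 r⟩
        rcases hr with rfl | rfl | rfl
        · exact Or.inl rfl
        · exact Or.inr (Or.inl rfl)
        · refine Or.inr (Or.inr ?_)
          show φ (t p q) = _
          rw [F1, NC.eq h hn]
    rw [this]
    exact hn'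
  · intro hn
    obtain ⟨p, q, hpq, hp, hq⟩ := hM2 _ hn
    obtain ⟨h1, h2, h3⟩ := hM.third _ hn p hp q hq hpq
    have hNC := F3 p q hpq ⟨_, hn, hp, hq⟩
    refine ⟨QLine op (φ p) (φ q), ⟨_, _, hNC, rfl⟩, ?_, ?_⟩
    · rintro z (rfl | rfl | rfl)
      · exact hT2 p
      · exact hT2 q
      · rw [← F1]; exact hT2 _
    · ext s
      have hs : s ∈ l' ↔ e s ∈ e '' l' := (e.injective.mem_set_image).symm
      rw [hs, h3]
      simp only [Set.mem_insert_iff, Set.mem_singleton_iff, Set.mem_setOf_eq, QLine]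
      rw [← NC.eq h hNC, ← F1, ← he1 s]
      constructor
      · rintro (h' | h' | h')
        · exact Or.inl (by rw [h'])
        · exact Or.inr (Or.inl (by rw [h']))
        · exact Or.inr (Or.inr (by rw [h']))
      · rintro (h' | h' | h')
        · exact Or.inl (hinj h')
        · exact Or.inr (Or.inl (hinj h'))
        · exact Or.inr (Or.inr (hinj h'))

/-! Fin-level combinatorics -/

/-- `f` turns `tab i` into `op (f i)` -/
def Good {n : ℕ} (op : Q → Q → Q) (f : Fin n → Q) (tab : Fin n → Fin n → Fin n) (i : Fin n) : Prop :=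
  ∀ j, f (tab i j) = op (f i) (f j)

theorem good_tab (h : FQ op) {n : ℕ} {f : Fin n → Q} {tab : Fin n → Fin n → Fin n}
    (hlaw : ∀ p q r, tab (tab p q) r = tab p (tab q (tab p r))) {p q : Fin n}
    (hp : Good op f tab p) (hq : Good op f tab q) : Good op f tab (tab p q) := by
  intro r
  rw [hlaw, hp, hq, hp, hp, h.dist (f p) (f q), h.invol]

theorem NC_tab (h : FQ op) {n : ℕ} {f : Fin n → Q} {tab : Fin n → Fin n → Fin n} {k a b : Fin n}
    (hk : Good op f tab k) (hab : NC op (f a) (f b)) : NC op (f (tab k a)) (f (tab k b)) := by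
  rw [hk, hk]
  unfold NC
  rw [← h.dist]
  exact fun e => hab (h.inj _ e)

end CfsgLib.FischerSp
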